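import Mathlib
import Cfsg.Prelude.Def_LocalStructure
import Cfsg.Agent.Lib.Fitting.Basic
import Cfsg.Agent.Lib.Transfer.Basic
import Cfsg.Agent.Lib.PSolvable.Core

/-!
Weakly closed `p`-subgroups and their weak closures; `O^p` of a subgroup.
-/

set_option autoImplicit false
set_option linter.style.haveILetI false

open Cfsg
open scoped commutatorElement Pointwise

namespace CfsgLib.WeakClosure

variable {G : Type*} [Group G] {p : ℕ}

/-- Conjugate subgroup. -/
abbrev cg (g : G) (A : Subgroup G) : Subgroup G := A.map (MulAut.conj g).toMonoidHom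

theorem mem_cg {g x : G} {A : Subgroup G} : x ∈ cg g A ↔ g⁻¹ * x * g ∈ A := by
  constructor
  · rintro ⟨a, ha, rfl⟩
    simpa [mul_assoc] using ha
  · intro h
    exact ⟨_, h, by simp [mul_assoc]⟩

theorem cg_cg (g h : G) (A : Subgroup G) : cg g (cg h A) = cg (g * h) A := by
  ext x
  simp only [mem_cg, mul_inv_rev, mul_assoc]

theorem cg_one (A : Subgroup G) : cg 1 A = A := by
  ext x
  simp [mem_cg]

theorem cg_mono (g : G) {A B : Subgroup G} (h : A ≤ B) : cg g A ≤ cg g B := Subgroup.map_mono h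

theorem cg_inv_cg (g : G) (A : Subgroup G) : cg g⁻¹ (cg g A) = A := by
  rw [cg_cg, inv_mul_cancel, cg_one]

theorem cg_eq_of_mem_normalizer {g : G} {A : Subgroup G} (hg : g ∈ Subgroup.normalizer (A : Set G)) :
    cg g A = A := by
  ext x
  rw [mem_cg, ← Subgroup.mem_normalizer_iff''.mp hg x]

theorem mem_normalizer_of_cg_eq {g : G} {A : Subgroup G} (hg : cg g A = A) :
    g ∈ Subgroup.normalizer (A : Set G) := by
  rw [Subgroup.mem_normalizer_iff'']
  intro x
  conv_lhs => rw [← hg]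
  exact mem_cg

theorem le_normalizer_of_forall {A B : Subgroup G} (h : ∀ a ∈ A, ∀ b ∈ B, a * b * a⁻¹ ∈ B) :
    A ≤ Subgroup.normalizer (B : Set G) := by
  intro a ha
  rw [Subgroup.mem_normalizer_iff]
  refine fun b => ⟨h a ha b, fun hb => ?_⟩
  have := h a⁻¹ (A.inv_mem ha) _ hb
  simpa [mul_assoc] using this

/-- A common normaliser of two subgroups normalises their commutator. -/
theorem le_normalizer_commutator {A X Y : Subgroup G} (hX : A ≤ Subgroup.normalizer (X : Set G))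
    (hY : A ≤ Subgroup.normalizer (Y : Set G)) : A ≤ Subgroup.normalizer ((⁅X, Y⁆ : Subgroup G) : Set G) := by
  intro a ha
  apply mem_normalizer_of_cg_eq
  rw [cg, Subgroup.map_commutator]
  exact congrArg₂ _ (cg_eq_of_mem_normalizer (hX ha)) (cg_eq_of_mem_normalizer (hY ha))

theorem left_le_normalizer_commutator (X Y : Subgroup G) :
    X ≤ Subgroup.normalizer ((⁅X, Y⁆ : Subgroup G) : Set G) := by
  refine le_normalizer_of_forall fun x hx => ?_
  have hle : ⁅X, Y⁆ ≤ (⁅X, Y⁆).comap (MulAut.conj x).toMonoidHom := by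
    rw [Subgroup.commutator_le]
    intro a ha y hy
    change x * ⁅a, y⁆ * x⁻¹ ∈ ⁅X, Y⁆
    have e : x * ⁅a, y⁆ * x⁻¹ = ⁅x * a, y⁆ * ⁅x, y⁆⁻¹ := by
      simp only [commutatorElement_def]; group
    rw [e]
    exact Subgroup.mul_mem _ (Subgroup.commutator_mem_commutator (X.mul_mem hx ha) hy)
      (Subgroup.inv_mem _ (Subgroup.commutator_mem_commutator hx hy))
  exact hle

theorem right_le_normalizer_commutator (X Y : Subgroup G) :
    Y ≤ Subgroup.normalizer ((⁅X, Y⁆ : Subgroup G) : Set G) := by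
  rw [Subgroup.commutator_comm]
  exact left_le_normalizer_commutator Y X

theorem commutator_le_of_normalizes {X Y : Subgroup G} (h : Y ≤ Subgroup.normalizer (X : Set G)) :
    ⁅X, Y⁆ ≤ X := by
  rw [Subgroup.commutator_le]
  intro x hx y hy
  rw [commutatorElement_def, show x * y * x⁻¹ * y⁻¹ = x * (y * x⁻¹ * y⁻¹) by group]
  exact X.mul_mem hx ((Subgroup.mem_normalizer_iff.mp (h hy) x⁻¹).mp (X.inv_mem hx))

/-- A `p'`-element of `M R`, `R` a `p`-group normalising `M`, lies in `M`. -/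
theorem mem_of_coprime {M R : Subgroup G} (hR : IsPGroup p R)
    (hRM : R ≤ Subgroup.normalizer (M : Set G)) {x : G} (hx : x ∈ M ⊔ R)
    (hc : (orderOf x).Coprime p) : x ∈ M := by
  let H : Subgroup G := M ⊔ R
  haveI : (M.subgroupOf H).Normal :=
    Subgroup.normal_subgroupOf_of_le_normalizer (sup_le Subgroup.le_normalizer hRM)
  have hmem : x ∈ ((M : Set G) * (R : Set G)) := by
    rw [← Subgroup.coe_mul_of_right_le_normalizer_left M R hRM]
    exact hx
  obtain ⟨m, hm, r, hr, rfl⟩ := hmem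
  obtain ⟨n, hn⟩ := hR ⟨r, hr⟩
  have hmH : m ∈ H := (le_sup_left : M ≤ H) hm
  have hrH : r ∈ H := (le_sup_right : R ≤ H) hr
  have hq : ((⟨m * r, hx⟩ : H) : H ⧸ M.subgroupOf H) = ((⟨r, hrH⟩ : H) : H ⧸ M.subgroupOf H) := by
    rw [show (⟨m * r, hx⟩ : H) = ⟨m, hmH⟩ * ⟨r, hrH⟩ from Subtype.ext rfl, QuotientGroup.mk_mul,
      (QuotientGroup.eq_one_iff (⟨m, hmH⟩ : H)).mpr hm, one_mul]
  have h2 : ((⟨m * r, hx⟩ : H) : H ⧸ M.subgroupOf H) ^ p ^ n = 1 := by
    rw [hq, ← QuotientGroup.mk_pow]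
    refine (QuotientGroup.eq_one_iff _).mpr ?_
    rw [Subgroup.mem_subgroupOf, Subgroup.coe_pow]
    have : r ^ p ^ n = 1 := congrArg Subtype.val hn
    change r ^ p ^ n ∈ M
    rw [this]
    exact M.one_mem
  have hd1 : orderOf ((⟨m * r, hx⟩ : H) : H ⧸ M.subgroupOf H) ∣ orderOf (m * r) := by
    have := orderOf_map_dvd (QuotientGroup.mk' (M.subgroupOf H)) (⟨m * r, hx⟩ : H)
    rwa [Subgroup.orderOf_mk] at this
  have hone := Nat.eq_one_of_dvd_coprimes (hc.pow_right n) hd1 (orderOf_dvd_of_pow_eq_one h2)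
  rw [orderOf_eq_one_iff, QuotientGroup.eq_one_iff] at hone
  exact hone

/-- `O^p(W)` inside the ambient group. -/
abbrev opOf (p : ℕ) (W : Subgroup G) : Subgroup G := (Cfsg.pResidual p ↥W).map W.subtype

theorem mem_opOf {W : Subgroup G} {x : G} (hx : x ∈ W) (hc : (orderOf x).Coprime p) :
    x ∈ opOf p W :=
  ⟨⟨x, hx⟩, Subgroup.subset_closure (by rw [Set.mem_ofPred_eq, Subgroup.orderOf_mk]; exact hc), rfl⟩

theorem opOf_le_of_forall {W M : Subgroup G} (h : ∀ x ∈ W, (orderOf x).Coprime p → x ∈ M) :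
    opOf p W ≤ M := by
  rw [opOf, Subgroup.map_le_iff_le_comap]
  exact (Subgroup.closure_le _).mpr fun x hx => h x x.2 (by rw [Subgroup.orderOf_coe]; exact hx)

theorem opOf_le (W : Subgroup G) : opOf p W ≤ W := Subgroup.map_subtype_le _

theorem orderOf_conj' (g x : G) : orderOf (g * x * g⁻¹) = orderOf x :=
  orderOf_injective (MulAut.conj g).toMonoidHom (MulAut.conj g).injective x

theorem le_normalizer_opOf {A W : Subgroup G} (h : A ≤ Subgroup.normalizer (W : Set G)) :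
    A ≤ Subgroup.normalizer (opOf p W : Set G) := by
  refine le_normalizer_of_forall fun a ha => ?_
  have hle : opOf p W ≤ (opOf p W).comap (MulAut.conj a).toMonoidHom :=
    opOf_le_of_forall fun x hx hc =>
      mem_opOf ((Subgroup.mem_normalizer_iff.mp (h ha) x).mp hx) (by
        rw [show (MulAut.conj a).toMonoidHom x = a * x * a⁻¹ from rfl, orderOf_conj']; exact hc)
  exact hle

/-- `W = O^p(W) Q` when `Q` lies in no proper normal subgroup of `W`. -/
theorem le_opOf_sup [Finite G] [Fact p.Prime] {W Q : Subgroup G} (hQW : Q ≤ W)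
    (hgen : ∀ M : Subgroup ↥W, M.Normal → Q.subgroupOf W ≤ M → M = ⊤) : W ≤ opOf p W ⊔ Q := by
  haveI := Transfer.pResidual_normal p ↥W
  have htop : Cfsg.pResidual p ↥W ⊔ Q.subgroupOf W = ⊤ := by
    set f := QuotientGroup.mk' (Cfsg.pResidual p ↥W) with hf
    rcases eq_top_or_exists_le_coatom ((Q.subgroupOf W).map f) with h | ⟨C, hC, hle⟩
    · have := congrArg (Subgroup.comap f) h
      rw [Subgroup.comap_map_eq, hf, QuotientGroup.ker_mk', Subgroup.comap_top] at this
      rwa [sup_comm]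
    · exfalso
      haveI : Group.IsNilpotent (↥W ⧸ Cfsg.pResidual p ↥W) :=
        Transfer.isPGroup_quotient_pResidual.isNilpotent
      have hCn : C.Normal := Subgroup.NormalizerCondition.normal_of_coatom C Group.normalizerCondition_of_isNilpotent hC
      have := hgen (C.comap f) (hCn.comap f) (Subgroup.map_le_iff_le_comap.mp hle)
      apply hC.1
      rw [← Subgroup.map_comap_eq_self_of_surjective (QuotientGroup.mk'_surjective _) C, this,
        Subgroup.map_top_of_surjective _ (QuotientGroup.mk'_surjective _)]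
  have h2 := congrArg (Subgroup.map W.subtype) htop
  rw [Subgroup.map_sup, Subgroup.map_subgroupOf_eq_of_le hQW, ← MonoidHom.range_eq_map,
    Subgroup.range_subtype] at h2
  exact h2.ge

theorem cg_le_weakClosure {Q L : Subgroup G} {g : G} (h : cg g Q ≤ L) :
    cg g Q ≤ Cfsg.weakClosure Q L :=
  le_iSup (fun g : {g : G // Q.map (MulAut.conj g).toMonoidHom ≤ L} =>
    Q.map (MulAut.conj (g : G)).toMonoidHom) ⟨g, h⟩

theorem weakClosure_le (Q L : Subgroup G) : Cfsg.weakClosure Q L ≤ L := iSup_le fun g => g.2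

theorem le_weakClosure {Q L : Subgroup G} (h : Q ≤ L) : Q ≤ Cfsg.weakClosure Q L := by
  have h1 := cg_le_weakClosure (g := 1) (Q := Q) (L := L) (by rw [cg_one]; exact h)
  rwa [cg_one] at h1

theorem le_normalizer_weakClosure {A Q L : Subgroup G} (h : A ≤ Subgroup.normalizer (L : Set G)) :
    A ≤ Subgroup.normalizer (Cfsg.weakClosure Q L : Set G) := by
  refine le_normalizer_of_forall fun a ha => ?_
  have hle : Cfsg.weakClosure Q L ≤ (Cfsg.weakClosure Q L).comap (MulAut.conj a).toMonoidHom := by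
    refine iSup_le fun g => ?_
    rw [← Subgroup.map_le_iff_le_comap]
    change cg a (cg g Q) ≤ _
    rw [cg_cg]
    refine cg_le_weakClosure ?_
    rw [← cg_cg]
    exact (cg_mono a g.2).trans (cg_eq_of_mem_normalizer (h ha)).le
  exact hle

section WeaklyClosed

variable [Finite G] [Fact p.Prime] {Q : Subgroup G}

theorem eq_of_le_sylow (hwc : Cfsg.IsWeaklyClosedSubgroup p Q) {R : Sylow p G}
    (hQR : Q ≤ (R : Subgroup G)) (g : G) (hg : cg g Q ≤ (R : Subgroup G)) : cg g Q = Q := by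
  obtain ⟨T, hQT, hT⟩ := hwc
  obtain ⟨h, hh⟩ := MulAction.exists_smul_eq G R T
  have hle : ∀ {X : Subgroup G}, X ≤ (R : Subgroup G) → cg h X ≤ (T : Subgroup G) := fun hX =>
    (cg_mono h hX).trans (le_of_eq (congrArg Sylow.toSubgroup hh))
  have h1 : cg h Q = Q := hT h (hle hQR)
  have h2 : cg (h * g) Q = Q := hT (h * g) (by have h3 := hle hg; rwa [cg_cg] at h3)
  rw [← cg_cg] at h2
  calc cg g Q = cg h⁻¹ (cg h (cg g Q)) := (cg_inv_cg h _).symm
    _ = cg h⁻¹ (cg h Q) := by rw [h2, h1]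
    _ = Q := cg_inv_cg h Q

theorem exists_conj_in (hwc : Cfsg.IsWeaklyClosedSubgroup p Q) (hQp : IsPGroup p Q)
    {X : Subgroup G} (hQX : Q ≤ X) (g : G) (hg : cg g Q ≤ X) : ∃ x ∈ X, cg g Q = cg x Q := by
  obtain ⟨P₁, hP₁⟩ := (hQp.of_equiv (Subgroup.subgroupOfEquivOfLe hQX).symm).exists_le_sylow
  obtain ⟨P₂, hP₂⟩ :=
    ((hQp.map (MulAut.conj g).toMonoidHom).of_equiv (Subgroup.subgroupOfEquivOfLe hg).symm).exists_le_sylow
  obtain ⟨x, hx⟩ := MulAction.exists_smul_eq X P₂ P₁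
  obtain ⟨R, hR⟩ := (P₁.2.map X.subtype).exists_le_sylow
  have hQR : Q ≤ (R : Subgroup G) := fun q hq => hR ⟨⟨q, hQX hq⟩, hP₁ hq, rfl⟩
  have hxg : cg ((x : G) * g) Q ≤ (R : Subgroup G) := by
    rw [← cg_cg]
    rintro _ ⟨q, hq, rfl⟩
    refine hR ⟨MulAut.conj x ⟨q, hg hq⟩, ?_, rfl⟩
    have : MulAut.conj x ⟨q, hg hq⟩ ∈ ((x • P₂ : Sylow p X) : Subgroup X) := ⟨⟨q, hg hq⟩, hP₂ hq, rfl⟩
    rwa [hx] at this
  refine ⟨(x : G)⁻¹, X.inv_mem x.2, ?_⟩
  calc cg g Q = cg (x : G)⁻¹ (cg ((x : G) * g) Q) := by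
        rw [← cg_cg (x : G), cg_inv_cg]
    _ = cg (x : G)⁻¹ Q := by rw [eq_of_le_sylow hwc hQR _ hxg]

theorem pGroup_le_normalizer (hwc : Cfsg.IsWeaklyClosedSubgroup p Q) {R : Subgroup G}
    (hR : IsPGroup p R) (hQR : Q ≤ R) : R ≤ Subgroup.normalizer (Q : Set G) := by
  obtain ⟨S, hS⟩ := hR.exists_le_sylow
  intro r hr
  refine mem_normalizer_of_cg_eq (eq_of_le_sylow hwc (hQR.trans hS) r ?_)
  exact (cg_mono r (hQR.trans hS)).trans (cg_eq_of_mem_normalizer (Subgroup.le_normalizer (hS hr))).le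

end WeaklyClosed

end CfsgLib.WeakClosure
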